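import Groth.Agent.Lib.EtLimit.ColimExt
import Groth.Agent.Lib.EtDer.HpullSeq
import Groth.Agent.Lib.EtDer.HpullComp
import Groth.Agent.Lib.EtFastInst
import Groth.Agent.Lib.EtSite.Sections
import Groth.Agent.Lib.EtSite.Pull

/-!
# Reduction of comparison statements to sheaves killed by an integer
-/

set_option autoImplicit false
set_option backward.isDefEq.respectTransparency false

universe u

open CategoryTheory CategoryTheory.Limits CategoryTheory.Abelian AlgebraicGeometry Opposite
open scoped GrothLib.EtFast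

noncomputable section

namespace GrothLib.CompPull13

/-- Positive integers with prime factors in `L`, ordered by divisibility. -/
structure Smooth (L : Set ℕ) : Type u where
  val : ULift.{u} ℕ
  prop : EtAcyc.PrimesIn L val.down

instance (L : Set ℕ) : Preorder (Smooth.{u} L) where
  le a b := a.val.down ∣ b.val.down
  le_refl a := dvd_refl a.val.down
  le_trans a b c := dvd_trans

instance (L : Set ℕ) : Nonempty (Smooth.{u} L) :=
  ⟨⟨⟨1⟩, one_pos, fun _ hp h => absurd (Nat.dvd_one.1 h) hp.ne_one⟩⟩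

instance (L : Set ℕ) : IsDirected (Smooth.{u} L) (· ≤ ·) :=
  ⟨fun a b => ⟨⟨⟨a.val.down * b.val.down⟩, Nat.mul_pos a.prop.1 b.prop.1,
    fun p hp h => (hp.dvd_mul.1 h).elim (a.prop.2 p hp) (b.prop.2 p hp)⟩,
      dvd_mul_right _ _, dvd_mul_left _ _⟩⟩

variable {X : Scheme.{u}} (L : Set ℕ) (F : EtCoh.Ab X)

theorem ι_comp_nsmul_of_le {a b : Smooth.{u} L} (h : a ≤ b) :
    kernel.ι (a.val.down • 𝟙 F) ≫ (b.val.down • 𝟙 F) = 0 := by
  obtain ⟨c, hc⟩ := h
  rw [hc, mul_comm, mul_nsmul', Preadditive.comp_nsmul, kernel.condition, smul_zero]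

/-- The diagram of the parts killed by integers with prime factors in `L`. -/
def killedDiag : Smooth.{u} L ⥤ EtCoh.Ab X where
  obj a := kernel (a.val.down • 𝟙 F)
  map {a b} h := kernel.lift _ (kernel.ι (a.val.down • 𝟙 F)) (ι_comp_nsmul_of_le L F (leOfHom h))
  map_id a := by rw [← cancel_mono (kernel.ι _)]; simp
  map_comp f g := by rw [← cancel_mono (kernel.ι _)]; simp

theorem killedBy_killedDiag (a : Smooth.{u} L) : EtCoh.KilledBy a.val.down ((killedDiag L F).obj a) := by
  have h1 : (a.val.down • 𝟙 ((killedDiag L F).obj a) : (killedDiag L F).obj a ⟶ _) = 0 := by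
    rw [← cancel_mono (kernel.ι (a.val.down • 𝟙 F)), zero_comp, Preadditive.nsmul_comp, Category.id_comp]
    have := kernel.condition (a.val.down • 𝟙 F)
    rwa [Preadditive.comp_nsmul, Category.comp_id] at this
  intro U s
  exact congrArg (fun k : (killedDiag L F).obj a ⟶ (killedDiag L F).obj a => k.hom.app (op U) s) h1

/-- The cocone of the parts killed by integers. -/
def killedCocone : Cocone (killedDiag L F) where
  pt := F
  ι := { app := fun a => kernel.ι (a.val.down • 𝟙 F), naturality := fun a b h => by simp [killedDiag] }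

theorem exists_section_lift {m : ℕ} {U : X.Etale} (s : EtCoh.sect F U) (h : m • s = 0) :
    ∃ t : EtCoh.sect (kernel (m • 𝟙 F)) U, (kernel.ι (m • 𝟙 F)).hom.app (op U) t = s := by
  let Φ : EtCoh.Ab X ⥤ AddCommGrpCat.{u + 1} := sheafToPresheaf _ _ ⋙ (evaluation _ _).obj (op U)
  haveI : PreservesFiniteLimits Φ := comp_preservesFiniteLimits _ _
  haveI : Φ.Additive := Functor.additive_of_preserves_binary_products _
  let S : ShortComplex (EtCoh.Ab X) := ShortComplex.mk (kernel.ι (m • 𝟙 F)) (m • 𝟙 F) (kernel.condition _)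
  have hS : S.Exact := ShortComplex.exact_of_f_is_kernel S (kernelIsKernel _)
  have he := hS.map_of_mono_of_preservesKernel Φ inferInstance inferInstance
  refine (ShortComplex.ab_exact_iff _).1 he s ?_
  have e : Φ.map (m • 𝟙 F) = m • 𝟙 (Φ.obj F) := by rw [Functor.map_nsmul, CategoryTheory.Functor.map_id]
  exact (congrArg (fun k : Φ.obj F ⟶ Φ.obj F => k s) e).trans h

theorem nonempty_iso_colimit (hF : EtAcyc.IsLTorsion L F) :
    IsIso (colimit.desc (killedDiag L F) (killedCocone L F)) := by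
  let d := colimit.desc (killedDiag L F) (killedCocone L F)
  haveI : Epi d := by
    refine (Sheaf.isLocallySurjective_iff_epi' _ d).1 ⟨fun {U} s => ?_⟩
    rw [GrothLib.EtSite.mem_topology_iff]
    intro x
    obtain ⟨V, g, m, ⟨v, hv⟩, hm, hz⟩ := hF U s x
    obtain ⟨t, ht⟩ := exists_section_lift F (m := m) (F.obj.map g.op s) hz
    let a : Smooth.{u} L := ⟨⟨m⟩, hm⟩
    refine ⟨V, g, v, ⟨(colimit.ι (killedDiag L F) a).hom.app (op V) t, ?_⟩, hv⟩
    have := congrArg (fun k => k.hom.app (op V) t) (colimit.ι_desc (killedCocone L F) a)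
    exact this.trans ht
  haveI : Mono d := by
    let c : killedDiag L F ⟶ (Functor.const _).obj F := (killedCocone L F).ι
    haveI : ∀ a, Mono (c.app a) := fun a => inferInstanceAs (Mono (kernel.ι (a.val.down • 𝟙 F)))
    haveI : Mono c := NatTrans.mono_of_mono_app c
    haveI : Mono (colimMap c) := inferInstanceAs (Mono (colim.map c))
    haveI : IsConnected (Smooth.{u} L) := IsFiltered.isConnected _
    let e := (colimit.isColimit ((Functor.const (Smooth.{u} L)).obj F)).coconePointUniqueUpToIso (isColimitConstCocone (Smooth.{u} L) F)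
    have : d = colimMap c ≫ e.hom := by
      refine colimit.hom_ext fun a => ?_
      rw [colimit.ι_desc, ι_colimMap_assoc, show e.hom = _ from rfl,
        colimit.comp_coconePointUniqueUpToIso_hom]
      exact (Category.comp_id _).symm
    rw [this]
    infer_instance
  exact isIso_of_mono_of_epi d

variable [CompactSpace X] [QuasiSeparatedSpace X] {Y : Scheme.{u}} [CompactSpace Y] [QuasiSeparatedSpace Y]

/-- The comparison condition may be checked on sheaves killed by an integer. -/
theorem compN_of_killed (h : Y ⟶ X) [PreservesFiniteLimits (EtCoh.pull h)] (L : Set ℕ) (n : ℕ)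
    (H : ∀ (m : ℕ), EtAcyc.PrimesIn L m → ∀ (F : EtCoh.Ab X), EtCoh.KilledBy m F →
      (∀ q : ℕ, q ≤ n → Function.Bijective (EtCore.Hpull h F q)) ∧ Function.Injective (EtCore.Hpull h F (n + 1))) :
    EtAcyc.CompN h L n := by
  intro F hF _
  let G := killedDiag L F
  haveI := nonempty_iso_colimit L F hF
  let eF : colimit G ≅ F := asIso (colimit.desc (killedDiag L F) (killedCocone L F))
  let P := EtCoh.pull h
  haveI : PreservesColimitsOfSize.{u, u} P := (EtCoh.pullPushAdj h).leftAdjoint_preservesColimits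
  let eP : colimit (G ⋙ P) ≅ P.obj F := (preservesColimitIso P G).symm ≪≫ P.mapIso eF
  have hk : ∀ a : Smooth.{u} L, (∀ q : ℕ, q ≤ n → Function.Bijective (EtCore.Hpull h (G.obj a) q)) ∧
      Function.Injective (EtCore.Hpull h (G.obj a) (n + 1)) :=
    fun a => H a.val.down a.prop _ (killedBy_killedDiag L F a)
  have heP : ∀ a, colimit.ι (G ⋙ P) a ≫ eP.hom = P.map (colimit.ι G a ≫ eF.hom) := fun a => by
    simp only [eP, Iso.trans_hom, Iso.symm_hom, Functor.mapIso_hom, ι_preservesColimitIso_inv_assoc,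
      Functor.map_comp]
  have inj : ∀ q : ℕ, q ≤ n + 1 → Function.Injective (EtCore.Hpull h F q) := by
    intro q hq
    refine (injective_iff_map_eq_zero _).2 fun x hx => ?_
    obtain ⟨a, η, hη⟩ := GrothLib.EtLimit.exists_colim_eq G q (Ext.comp x (Ext.mk₀ eF.inv) (add_zero q))
    have hx' : x = Ext.comp η (Ext.mk₀ (colimit.ι G a ≫ eF.hom)) (add_zero q) := by
      rw [← Ext.mk₀_comp_mk₀, ← Ext.comp_assoc_of_second_deg_zero, hη, Ext.comp_assoc_of_second_deg_zero,
        Ext.mk₀_comp_mk₀, Iso.inv_hom_id, Ext.comp_mk₀_id]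
    have h0 : Ext.comp (EtCore.Hpull h (G.obj a) q η) (Ext.mk₀ (colimit.ι (G ⋙ P) a)) (add_zero q) = 0 := by
      apply (GrothLib.EtDer.bijective_comp_mk₀ eP q).1
      show Ext.comp (Ext.comp _ _ _) (Ext.mk₀ eP.hom) (add_zero q) = Ext.comp 0 _ _
      rw [Ext.zero_comp, Ext.comp_assoc_of_second_deg_zero, Ext.mk₀_comp_mk₀, heP]
      rw [hx'] at hx
      exact (GrothLib.EtDer.Hpull_mk₀ h _ q η).symm.trans hx
    obtain ⟨b, hab, hb⟩ := GrothLib.EtLimit.exists_le_colim_eq_zero (G ⋙ P) a q _ h0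
    have h1 : EtCore.Hpull h (G.obj b) q (Ext.comp η (Ext.mk₀ (G.map (homOfLE hab))) (add_zero q)) = 0 :=
      (GrothLib.EtDer.Hpull_mk₀ h _ q η).trans hb
    have hi : Function.Injective (EtCore.Hpull h (G.obj b) q) := by
      rcases Nat.lt_or_ge n q with hlt | hle
      · obtain rfl : q = n + 1 := by omega
        exact (hk b).2
      · exact ((hk b).1 q hle).1
    have h2 := hi (h1.trans (map_zero _).symm)
    rw [hx', ← colimit.w G (homOfLE hab), Category.assoc, ← Ext.mk₀_comp_mk₀,
      ← Ext.comp_assoc_of_second_deg_zero, h2, Ext.zero_comp]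
  refine ⟨fun q hq => ⟨inj q (by omega), fun ξ => ?_⟩, inj (n + 1) le_rfl⟩
  obtain ⟨a, η, hη⟩ := GrothLib.EtLimit.exists_colim_eq (G ⋙ P) q (Ext.comp ξ (Ext.mk₀ eP.inv) (add_zero q))
  obtain ⟨η', rfl⟩ := ((hk a).1 q hq).2 η
  refine ⟨Ext.comp η' (Ext.mk₀ (colimit.ι G a ≫ eF.hom)) (add_zero q), ?_⟩
  refine (GrothLib.EtDer.Hpull_mk₀ h _ q η').trans ?_
  rw [← heP a, ← Ext.mk₀_comp_mk₀, ← Ext.comp_assoc_of_second_deg_zero]
  refine (congrArg (fun k => Ext.comp k (Ext.mk₀ eP.hom) (add_zero q)) hη).trans ?_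
  rw [Ext.comp_assoc_of_second_deg_zero, Ext.mk₀_comp_mk₀, Iso.inv_hom_id]
  exact Ext.comp_mk₀_id _

end GrothLib.CompPull13
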