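import Groth.Agent.Lib.CompPull13.Points
import Groth.Agent.Lib.CompPull13.Tors
import Groth.Agent.Lib.BCQLES13.Et
import Groth.Agent.Lib.AcyN18.Main
import Groth.Agent.Lib.EtLimit.BaseChangeClass

/-!
# Detecting classes in the image after a surjective base change
-/

set_option autoImplicit false
set_option backward.isDefEq.respectTransparency false

universe u

open CategoryTheory CategoryTheory.Limits CategoryTheory.Abelian AlgebraicGeometry Opposite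

noncomputable section

namespace GrothLib.CompPull13

variable {A B C : Scheme.{u}}

theorem HpullVia_eq (f : A ⟶ B) (t : B ⟶ C) (f₀ : A ⟶ C) (w : f ≫ t = f₀) [PreservesFiniteLimits (EtCoh.pull f)]
    (F : EtCoh.Ab C) (k : ℕ) (y : EtCoh.H B ((EtCoh.pull t).obj F) k) :
    EtCore.HpullVia f t f₀ w F k y = Ext.comp (EtCore.Hpull f ((EtCoh.pull t).obj F) k y)
      (Ext.mk₀ ((GrothLib.EtLimit.pV f t f₀ w).hom.app F)) (add_zero k) :=
  GrothLib.EtDer.MV.HpullVia_apply f t f₀ w F k y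

/-- Relative pullback is natural in the sheaf. -/
theorem HpullVia_mk₀ (f : A ⟶ B) (t : B ⟶ C) (f₀ : A ⟶ C) (w : f ≫ t = f₀) [PreservesFiniteLimits (EtCoh.pull f)]
    {F F' : EtCoh.Ab C} (a : F ⟶ F') (k : ℕ) (y : EtCoh.H B ((EtCoh.pull t).obj F) k) :
    EtCore.HpullVia f t f₀ w F' k (Ext.comp y (Ext.mk₀ ((EtCoh.pull t).map a)) (add_zero k)) =
      Ext.comp (EtCore.HpullVia f t f₀ w F k y) (Ext.mk₀ ((EtCoh.pull f₀).map a)) (add_zero k) := by
  rw [HpullVia_eq, HpullVia_eq, GrothLib.EtDer.Hpull_mk₀, Ext.comp_assoc_of_second_deg_zero,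
    Ext.comp_assoc_of_second_deg_zero, Ext.mk₀_comp_mk₀, Ext.mk₀_comp_mk₀]
  exact congrArg (fun k' => Ext.comp _ (Ext.mk₀ k') (add_zero k)) ((GrothLib.EtLimit.pV f t f₀ w).hom.naturality a)

variable {X Y Xb Yb : Scheme.{u}} (h : Y ⟶ X) (p : Xb ⟶ X) (hb : Yb ⟶ Xb) (pY : Yb ⟶ Y)
  (w : hb ≫ p = pY ≫ h) (L : Set ℕ) (n : ℕ)
  [PreservesFiniteLimits (EtCoh.pull h)] [PreservesFiniteLimits (EtCoh.pull hb)]
  [PreservesFiniteLimits (EtCoh.pull pY)] [Surjective p]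

/-- The criterion for sheaves killed by an integer. -/
theorem mem_range_of_killed (hh : EtAcyc.CompN h L n)
    (hbc : ∀ Fb : EtCoh.Ab Xb, EtAcyc.IsLTorsion L Fb → ∀ i : ℕ, i ≤ n → IsIso (EtBC.bcQ p h pY hb w i Fb))
    {m : ℕ} (hm : EtAcyc.PrimesIn L m) (F : EtCoh.Ab X) (hF : EtCoh.KilledBy m F)
    (ξ : EtCoh.H Y ((EtCoh.pull h).obj F) (n + 1)) (x : EtCoh.H Xb ((EtCoh.pull p).obj F) (n + 1))
    (hx : EtCore.HpullVia hb p (pY ≫ h) w F (n + 1) x = EtCore.HpullVia pY h (pY ≫ h) rfl F (n + 1) ξ) :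
    ξ ∈ Set.range (EtCore.Hpull h F (n + 1)) := by
  haveI := GrothLib.AcyN18.pushAdd pY
  haveI := fun {A B : Scheme.{u}} (m : A ⟶ B) => GrothLib.EtSite.pull_preservesFiniteLimits m
  have hT : ∀ {Z : Scheme.{u}} (G : EtCoh.Ab Z), EtCoh.KilledBy m G → EtAcyc.IsLTorsion L G :=
    fun {Z} G hG U s x => ⟨U, 𝟙 U, m, ⟨x, rfl⟩, hm, (congrArg (m • ·) (by simp)).trans (hG U s)⟩
  obtain ⟨G, v, _, hG, hH, hpush⟩ := exists_efface_H ((EtCoh.pull p).obj F) (GrothLib.KPi18.killedBy_pull p hF)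
  let u : F ⟶ (EtCoh.push p).obj G := (EtCoh.pullPushAdj p).unit.app F ≫ (EtCoh.push p).map v
  haveI := GrothLib.EtDer.mono_unit_of_surjective p F
  haveI : (EtCoh.push p).PreservesMonomorphisms := preservesMonomorphisms_of_preservesLimitsOfShape _
  haveI : Mono u := mono_comp _ _
  haveI : IsIso (EtCoh.baseChange0 p h pY hb w G) := by
    haveI := hbc G (hT G hG) 0 n.zero_le
    have e := EtBC.bcQ_zero_compat p h pY hb w G
    haveI : IsIso (EtCoh.baseChange0 p h pY hb w G ≫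
        (EtCoh.push pY).toRightDerivedZero.app ((EtCoh.pull hb).obj G)) := e ▸ inferInstance
    exact IsIso.of_isIso_comp_right _ ((EtCoh.push pY).toRightDerivedZero.app ((EtCoh.pull hb).obj G))
  let θ := EtCoh.baseChange0 p h pY hb w G
  have hR : ∀ r : ℕ, r < n → IsZero (((EtCoh.push pY).rightDerived (r + 1)).obj ((EtCoh.pull hb).obj G)) :=
    fun r hr => by
      haveI := hbc G (hT G hG) (r + 1) (by omega)
      exact ((EtCoh.pull h).map_isZero ((hpush p).1 (r + 1) r.succ_pos)).of_iso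
        (asIso (EtBC.bcQ p h pY hb w (r + 1) G)).symm
  have hinj := (GrothLib.AcyN18.adjMap_range (EtCoh.pullPushAdj pY) (EtCoh.const Y ℤ) n _ hR).2
  let M := (EtCoh.pull pY).map ((EtCoh.pull h).map u) ≫ (EtCoh.pull pY).map θ ≫
    (EtCoh.pullPushAdj pY).counit.app ((EtCoh.pull hb).obj G)
  let P₁ := GrothLib.EtLimit.pV pY h (pY ≫ h) rfl
  let P₂ := GrothLib.EtLimit.pV hb p (pY ≫ h) w
  have hM : P₂.hom.app F ≫ P₁.inv.app F ≫ M = (EtCoh.pull hb).map v := by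
    have n1 : P₁.inv.app F ≫ (EtCoh.pull pY).map ((EtCoh.pull h).map u) =
        (EtCoh.pull (pY ≫ h)).map u ≫ P₁.inv.app _ := (P₁.inv.naturality u).symm
    have n2 : P₂.hom.app F ≫ (EtCoh.pull (pY ≫ h)).map u =
        (EtCoh.pull hb).map ((EtCoh.pull p).map u) ≫ P₂.hom.app _ := (P₂.hom.naturality u).symm
    have bt := GrothLib.EtLimit.baseChange_transpose p h pY hb w G
    rw [Category.comp_id] at bt
    show P₂.hom.app F ≫ P₁.inv.app F ≫ _ ≫ _ ≫ _ = _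
    rw [reassoc_of% n1]
    erw [← bt]
    rw [reassoc_of% n2, Iso.hom_inv_id_app_assoc, ← Functor.map_comp]
    congr 1
    refine (Adjunction.homEquiv_counit (EtCoh.pullPushAdj p) _ _ _).symm.trans ?_
    exact ((congrArg ((EtCoh.pullPushAdj p).homEquiv _ _).symm (Adjunction.homEquiv_unit _ _ _ _).symm).trans
      (Equiv.symm_apply_apply _ _))
  have h0 : Ext.comp (EtCore.Hpull pY _ (n + 1) ξ) (Ext.mk₀ M) (add_zero (n + 1)) = 0 := by
    have e : Ext.comp (EtCore.Hpull pY _ (n + 1) ξ) (Ext.mk₀ (P₁.hom.app F)) (add_zero (n + 1)) =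
        Ext.comp (EtCore.Hpull hb _ (n + 1) x) (Ext.mk₀ (P₂.hom.app F)) (add_zero (n + 1)) :=
      (HpullVia_eq pY h _ rfl F _ ξ).symm.trans (hx.symm.trans (HpullVia_eq hb p _ w F _ x))
    have e2 := congrArg (fun z => Ext.comp z (Ext.mk₀ (P₁.inv.app F ≫ M)) (add_zero (n + 1))) e
    simp only [Ext.comp_assoc_of_second_deg_zero, Ext.mk₀_comp_mk₀, Iso.hom_inv_id_app_assoc, hM] at e2
    refine e2.trans ?_
    haveI := hH (n + 1) n.succ_pos
    rw [← GrothLib.EtDer.Hpull_mk₀ hb v, @Subsingleton.elim _ (hH (n + 1) n.succ_pos) (Ext.comp x (Ext.mk₀ v) _) 0,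
      map_zero]
  have hz : Ext.comp ξ (Ext.mk₀ ((EtCoh.pull h).map u)) (add_zero (n + 1)) = 0 := by
    apply (GrothLib.EtDer.bijective_comp_mk₀ (asIso θ) (n + 1)).1
    show Ext.comp _ (Ext.mk₀ θ) _ = Ext.comp 0 (Ext.mk₀ θ) _
    rw [Ext.zero_comp]
    apply hinj
    rw [map_zero, GrothLib.ExtAdj.adjMap_apply, Ext.mapExactFunctor_comp, Ext.mapExactFunctor_comp,
      Ext.mapExactFunctor_mk₀, Ext.mapExactFunctor_mk₀]
    apply (GrothLib.AcyN18.bijective_preMk₀ (EtCore.pullConst pY ℤ).symm (n + 1)).1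
    show (Ext.mk₀ _).comp _ _ = (Ext.mk₀ _).comp 0 _
    rw [Ext.comp_zero, ← h0]
    simp only [M, GrothLib.EtDer.Hpull_apply', Ext.comp_assoc_of_second_deg_zero,
      Ext.comp_assoc_of_third_deg_zero, Ext.mk₀_comp_mk₀, Category.assoc]
    rfl
  have hS : (ShortComplex.mk u (cokernel.π u) (cokernel.condition _)).ShortExact :=
    { exact := ShortComplex.exact_of_g_is_cokernel _ (cokernelIsCokernel u) }
  have hQ := hT _ (GrothLib.BCQLES.killedBy_of_epi (cokernel.π u) (GrothLib.KPi18.killedBy_push p hG))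
  exact GrothLib.EtDer.mem_range_Hpull_of_mono h hS n (hh _ hQ).2 ((hh _ hQ).1 n le_rfl).2 ξ
    ⟨0, (map_zero _).trans hz.symm⟩

omit [Surjective p] in
/-- Being in the image passes to the base change. -/
theorem mem_range_base (F : EtCoh.Ab X) (k : ℕ) (y : EtCoh.H X F k) :
    EtCore.HpullVia pY h (pY ≫ h) rfl F k (EtCore.Hpull h F k y) ∈
      Set.range (EtCore.HpullVia hb p (pY ≫ h) w F k) := by
  haveI := GrothLib.EtSite.pull_preservesFiniteLimits (pY ≫ h)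
  haveI := GrothLib.EtSite.pull_preservesFiniteLimits p
  exact ⟨EtCore.Hpull p F k y, (GrothLib.EtDer.HpullVia_Hpull hb p _ w F k y).trans
    (GrothLib.EtDer.HpullVia_Hpull pY h _ rfl F k y).symm⟩

variable [CompactSpace X] [QuasiSeparatedSpace X] [CompactSpace Y] [QuasiSeparatedSpace Y]
  [CompactSpace Xb] [QuasiSeparatedSpace Xb] [CompactSpace Yb] [QuasiSeparatedSpace Yb]

open scoped GrothLib.EtFast in
/-- The criterion for torsion sheaves. -/
theorem mem_range_of_base (hh : EtAcyc.CompN h L n)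
    (hbc : ∀ Fb : EtCoh.Ab Xb, EtAcyc.IsLTorsion L Fb → ∀ i : ℕ, i ≤ n → IsIso (EtBC.bcQ p h pY hb w i Fb))
    (F : EtCoh.Ab X) (hF : EtAcyc.IsLTorsion L F)
    (ξ : EtCoh.H Y ((EtCoh.pull h).obj F) (n + 1))
    (hx : EtCore.HpullVia pY h (pY ≫ h) rfl F (n + 1) ξ ∈ Set.range (EtCore.HpullVia hb p (pY ≫ h) w F (n + 1))) :
    ξ ∈ Set.range (EtCore.Hpull h F (n + 1)) := by
  obtain ⟨x, hx⟩ := hx
  let G := killedDiag L F
  let k := n + 1
  haveI := nonempty_iso_colimit L F hF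
  let eF : colimit G ≅ F := asIso (colimit.desc (killedDiag L F) (killedCocone L F))
  haveI : ∀ {A : Scheme.{u}} (g : A ⟶ X), PreservesColimitsOfSize.{u, u} (EtCoh.pull g) := fun g =>
    (EtCoh.pullPushAdj g).leftAdjoint_preservesColimits
  let c : ∀ a, G.obj a ⟶ F := fun a => colimit.ι G a ≫ eF.hom
  have hc : ∀ {a b} (hab : a ≤ b), G.map (homOfLE hab) ≫ c b = c a := fun hab => colimit.w_assoc G _ _
  let e : ∀ {A : Scheme.{u}} (g : A ⟶ X), colimit (G ⋙ EtCoh.pull g) ≅ (EtCoh.pull g).obj F :=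
    fun g => (preservesColimitIso (EtCoh.pull g) G).symm ≪≫ (EtCoh.pull g).mapIso eF
  have he : ∀ {A : Scheme.{u}} (g : A ⟶ X) a, colimit.ι (G ⋙ EtCoh.pull g) a ≫ (e g).hom = (EtCoh.pull g).map (c a) :=
    fun g a => by
    simp only [e, c, Iso.trans_hom, Iso.symm_hom, Functor.mapIso_hom, ι_preservesColimitIso_inv_assoc,
      Functor.map_comp]
  have lift : ∀ {A : Scheme.{u}} [CompactSpace A] [QuasiSeparatedSpace A] (g : A ⟶ X)
      (z : EtCoh.H A ((EtCoh.pull g).obj F) k), ∃ (a : _) (η : EtCoh.H A ((EtCoh.pull g).obj (G.obj a)) k),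
        Ext.comp η (Ext.mk₀ ((EtCoh.pull g).map (c a))) (add_zero k) = z := by
    intro A _ _ g z
    obtain ⟨a, η, hη⟩ := GrothLib.EtLimit.exists_colim_eq (G ⋙ EtCoh.pull g) k
      (Ext.comp z (Ext.mk₀ (e g).inv) (add_zero k))
    refine ⟨a, η, ?_⟩
    rw [← he g a, ← Ext.mk₀_comp_mk₀, ← Ext.comp_assoc_of_second_deg_zero]
    refine (congrArg (fun z' => Ext.comp z' (Ext.mk₀ (e g).hom) (add_zero k)) hη).trans ?_
    rw [Ext.comp_assoc_of_second_deg_zero, Ext.mk₀_comp_mk₀, Iso.inv_hom_id]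
    exact Ext.comp_mk₀_id _
  have push : ∀ {A : Scheme.{u}} (g : A ⟶ X) {a b} (hab : a ≤ b) (η : EtCoh.H A ((EtCoh.pull g).obj (G.obj a)) k),
      Ext.comp (Ext.comp η (Ext.mk₀ ((EtCoh.pull g).map (G.map (homOfLE hab)))) (add_zero k))
        (Ext.mk₀ ((EtCoh.pull g).map (c b))) (add_zero k) = Ext.comp η (Ext.mk₀ ((EtCoh.pull g).map (c a))) (add_zero k) :=
    fun {A} g {a b} hab η => by
      rw [Ext.comp_assoc_of_second_deg_zero, Ext.mk₀_comp_mk₀, ← Functor.map_comp, hc hab]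
  obtain ⟨a₁, η₁, hη₁⟩ := lift h ξ
  obtain ⟨a₂, η₂, hη₂⟩ := lift p x
  obtain ⟨b, h₁, h₂⟩ := exists_ge_ge a₁ a₂
  let ξb := Ext.comp η₁ (Ext.mk₀ ((EtCoh.pull h).map (G.map (homOfLE h₁)))) (add_zero k)
  let xb := Ext.comp η₂ (Ext.mk₀ ((EtCoh.pull p).map (G.map (homOfLE h₂)))) (add_zero k)
  let d := EtCore.HpullVia hb p (pY ≫ h) w (G.obj b) k xb - EtCore.HpullVia pY h (pY ≫ h) rfl (G.obj b) k ξb
  have hd : Ext.comp d (Ext.mk₀ (colimit.ι (G ⋙ EtCoh.pull (pY ≫ h)) b)) (add_zero k) = 0 := by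
    apply (GrothLib.EtDer.bijective_comp_mk₀ (e (pY ≫ h)) k).1
    show Ext.comp (Ext.comp _ _ _) (Ext.mk₀ (e (pY ≫ h)).hom) (add_zero k) = Ext.comp 0 _ _
    rw [Ext.zero_comp, Ext.comp_assoc_of_second_deg_zero, Ext.mk₀_comp_mk₀, he, show d = _ - _ from rfl, sub_eq_add_neg, Ext.add_comp,
      Ext.neg_comp, ← sub_eq_add_neg, sub_eq_zero, ← HpullVia_mk₀, ← HpullVia_mk₀, push h h₁, push p h₂, hη₁, hη₂]
    exact hx
  obtain ⟨b', hbb, hb'⟩ := GrothLib.EtLimit.exists_le_colim_eq_zero (G ⋙ EtCoh.pull (pY ≫ h)) b k d hd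
  replace hb' : Ext.comp d (Ext.mk₀ ((EtCoh.pull (pY ≫ h)).map (G.map (homOfLE hbb)))) (add_zero k) = 0 := hb'
  rw [show d = _ - _ from rfl, sub_eq_add_neg, Ext.add_comp, Ext.neg_comp, ← sub_eq_add_neg, sub_eq_zero, ← HpullVia_mk₀, ← HpullVia_mk₀] at hb'
  obtain ⟨y, hy⟩ := mem_range_of_killed h p hb pY w L n hh hbc b'.prop _ (killedBy_killedDiag L F b') _ _ hb'
  refine ⟨Ext.comp y (Ext.mk₀ (c b')) (add_zero k), ?_⟩
  rw [GrothLib.EtDer.Hpull_mk₀, hy, push h hbb, push h h₁, hη₁]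

end GrothLib.CompPull13
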