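import Groth.Agent.Lib.BCQLES13.Efface
import Groth.Agent.Lib.EtSite.HVanish
import Groth.Agent.Lib.EtSite.PropSplit
import Groth.Agent.Lib.AcyN18.Adj
import Groth.Agent.S14451

/-!
# Cohomology of sheaves pushed forward from geometric points
-/

set_option autoImplicit false
set_option backward.isDefEq.respectTransparency false

universe u

open CategoryTheory CategoryTheory.Limits CategoryTheory.Abelian AlgebraicGeometry Opposite

noncomputable section

namespace GrothLib.CompPull13

/-- Global sections on a disjoint union of separably closed points preserve epimorphisms. -/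
theorem surjective_top_sigma {ι : Type u} (K : ι → Type u) [∀ i, Field (K i)] [∀ i, IsSepClosed (K i)]
    {F G : EtCoh.Ab (∐ fun i => Spec (CommRingCat.of (K i)))} (a : F ⟶ G) [Epi a] :
    Function.Surjective (a.hom.app (op (EtCoh.top (∐ fun i => Spec (CommRingCat.of (K i)))))) := by
  intro s
  let W := ∐ fun i => Spec (CommRingCat.of (K i))
  let T : W.Etale := EtCoh.top W
  haveI hloc : Sheaf.IsLocallySurjective a := (Sheaf.isLocallySurjective_iff_epi' _ a).2 inferInstance
  let σ : ∀ i, Spec (CommRingCat.of (K i)) ⟶ W := fun i => Sigma.ι (fun i => Spec (CommRingCat.of (K i))) i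
  haveI : ∀ i, IsOpenImmersion (σ i) := fun i => inferInstance
  let O : ι → T.left.Opens := fun i => (σ i).opensRange
  have key : ∀ i, ∃ r : F.obj.obj (op (GrothLib.EtSite.opensObj T (O i))),
      a.hom.app _ r = G.obj.map (GrothLib.EtSite.opensHom T (O i)).op s := by
    intro i
    obtain ⟨V, g, v, ⟨r, hr⟩, hv⟩ := (GrothLib.EtSite.mem_topology_iff _).1
      (Presheaf.imageSieve_mem W.smallEtaleTopology a.hom (U := op T) s) ((σ i).base default)
    let g' : V.left ⟶ W := g.left
    have hw : g' = V.hom := (Category.comp_id g').symm.trans (MorphismProperty.Over.w g)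
    haveI : Etale g' := by
      rw [hw]; exact V.prop
    obtain ⟨z, -, -⟩ := Scheme.Pullback.exists_preimage_pullback (f := g') (g := σ i) v default hv
    haveI : Etale (pullback.snd g' (σ i)) := MorphismProperty.pullback_snd _ _ inferInstance
    obtain ⟨t, ht⟩ := GrothLib.ProEtS.exists_section_of_isSepClosed (pullback.snd g' (σ i)) z
    have ht' : ((σ i).isoOpensRange.inv ≫ t ≫ pullback.fst g' (σ i)) ≫ g' = (O i).ι := by
      rw [Category.assoc, Category.assoc, pullback.condition, reassoc_of% ht]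
      exact Scheme.Hom.isoOpensRange_inv_comp _
    let k : GrothLib.EtSite.opensObj T (O i) ⟶ V :=
      MorphismProperty.Over.homMk ((σ i).isoOpensRange.inv ≫ t ≫ pullback.fst g' (σ i))
        ((congrArg (_ ≫ ·) hw.symm).trans (ht'.trans (Category.comp_id _).symm))
    have hk : k ≫ g = GrothLib.EtSite.opensHom T (O i) := by
      apply MorphismProperty.Over.Hom.ext
      exact ht'
    refine ⟨F.obj.map k.op r, ?_⟩
    rw [NatTrans.naturality_apply, hr, ← hk, op_comp, Functor.map_comp_apply]
  choose r hr using key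
  have hdisj : ∀ i j, i ≠ j → Disjoint (O i) (O j) := fun i j hij =>
    disjoint_opensRange_sigmaι (fun i => Spec (CommRingCat.of (K i))) i j hij
  have hsup : (⨆ i, O i) = ⊤ := by
    refine eq_top_iff.2 fun x _ => ?_
    obtain ⟨i, y, hy⟩ := (sigmaOpenCover fun i => Spec (CommRingCat.of (K i))).exists_eq x
    exact TopologicalSpace.Opens.mem_iSup.2 ⟨i, y, hy⟩
  have hP : ∀ H : EtCoh.Ab W, Presieve.IsSheaf W.smallEtaleTopology (H.obj ⋙ forget AddCommGrpCat.{u + 1}) :=
    fun H => (isSheaf_iff_isSheaf_of_type _ _).1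
      ((sheafCompose W.smallEtaleTopology (forget AddCommGrpCat.{u + 1})).obj H).property
  obtain ⟨z, hz, -⟩ := GrothLib.EtSite.existsUnique_glue (hP F) T O hdisj hsup r
  refine ⟨z, (GrothLib.EtSite.existsUnique_glue (hP G) T O hdisj hsup
    fun i => G.obj.map (GrothLib.EtSite.opensHom T (O i)).op s).unique (fun i => ?_) fun i => rfl⟩
  refine Eq.trans ?_ (hr i)
  exact (NatTrans.naturality_apply a.hom (GrothLib.EtSite.opensHom T (O i)).op z).symm.trans
    (congrArg _ (hz i))

/-- A sheaf pushed forward from a disjoint union of separably closed points has no higher cohomology. -/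
theorem subsingleton_H_push_sigma {ι : Type u} (K : ι → Type u) [∀ i, Field (K i)] [∀ i, IsSepClosed (K i)]
    {X : Scheme.{u}} (f : (∐ fun i => Spec (CommRingCat.of (K i))) ⟶ X)
    (A : EtCoh.Ab (∐ fun i => Spec (CommRingCat.of (K i)))) (p : ℕ) (hp : 1 ≤ p) :
    Subsingleton (EtCoh.H X ((EtCoh.push f).obj A) p) := by
  haveI := GrothLib.EtSite.pull_preservesFiniteLimits f
  haveI := GrothLib.EtSite.push_preservesEpimorphisms f (GrothLib.BCQLES.propB_sigma K f)
  haveI : (EtCoh.push f).IsRightAdjoint := (EtCoh.pullPushAdj f).isRightAdjoint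
  haveI : (EtCoh.push f).PreservesHomology := Functor.preservesHomology_of_preservesEpis_and_kernels _
  haveI := GrothLib.EtSite.subsingleton_H_of_gsec_epi _ (fun _ _ a _ => surjective_top_sigma K a) A p hp
  exact (Groth.Agent.S14451.result f A
    (fun q hq => GrothLib.EtSite.isZero_rightDerived_of_exact (EtCoh.push f) q hq A) p).1.subsingleton

/-- Sheaves killed by `m` embed into acyclic sheaves killed by `m`, also after direct image. -/
theorem exists_efface_H {Xb : Scheme.{u}} {m : ℕ} (F : EtCoh.Ab Xb) (hF : EtCoh.KilledBy m F) :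
    ∃ (G : EtCoh.Ab Xb) (ι : F ⟶ G), Mono ι ∧ EtCoh.KilledBy m G ∧
      (∀ p : ℕ, 1 ≤ p → Subsingleton (EtCoh.H Xb G p)) ∧
      ∀ {X : Scheme.{u}} (f : Xb ⟶ X), (∀ q : ℕ, 1 ≤ q → IsZero ((EtCoh.Rpush f q).obj G)) ∧
        ∀ p : ℕ, 1 ≤ p → Subsingleton (EtCoh.H X ((EtCoh.push f).obj G) p) := by
  let K : Xb → Type u := fun x => AlgebraicClosure (Xb.residueField x)
  let ξ : (∐ fun x => Spec (CommRingCat.of (K x))) ⟶ Xb := Sigma.desc fun x => GrothLib.EtSite.gac x
  haveI : Surjective ξ := ⟨fun x => ⟨(Sigma.ι (fun x => Spec (CommRingCat.of (K x))) x).base default, by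
    rw [← Scheme.Hom.comp_apply, Sigma.ι_desc, GrothLib.EtSite.gac_default]⟩⟩
  let A := (EtCoh.pull ξ).obj F
  refine ⟨(EtCoh.push ξ).obj A, (EtCoh.pullPushAdj ξ).unit.app F,
    GrothLib.EtDer.mono_unit_of_surjective ξ F,
    GrothLib.KPi18.killedBy_push ξ (GrothLib.KPi18.killedBy_pull ξ hF),
    fun p hp => subsingleton_H_push_sigma K ξ A p hp, fun {X} f => ⟨fun q hq =>
      GrothLib.BCQLES.isZero_Rpush_push_of_propB ξ f (GrothLib.BCQLES.propB_sigma K ξ)
        (GrothLib.BCQLES.propB_sigma K _) A q hq, fun p hp => ?_⟩⟩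
  haveI := subsingleton_H_push_sigma K (ξ ≫ f) A p hp
  exact (GrothLib.EtDer.bijective_comp_mk₀ ((EtCoh.pushComp f ξ).app A) p).1.subsingleton

end GrothLib.CompPull13
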